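import Cfsg.Agent.H318.RG.EngK
import Cfsg.Agent.H318.RG.RankTwo
import Cfsg.Agent.H165.FC.In
import Cfsg.Agent.H808.MD.Min
import Cfsg.Agent.H694.RG.MEmb

/-!
# S3509: `E6(q)` and `2E6(q)`, `q ≥ 3`, the closing (helper318)

* `close_six` : `InK m.ι` if the elements of order `3` are useful and the elements of prime order `ℓ ≠ 3` are useful
  (with `M` normalised by `C(y)`) or `|C(y)| ≤ Bx q ℓ`;
* `bx_small`, `bx_mid` : the two bounds for the centralizers.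
-/

set_option autoImplicit false
set_option linter.unusedSectionVars false

namespace Cfsg.Agent.H318.RG

open MulAction Subgroup Cfsg.Agent.H106.RC Cfsg.Agent.H327.RG Cfsg.Agent.H368.RG Cfsg.Agent.H873.RG Cfsg.Agent.H380.RC
open Cfsg.Agent.H694.RG
open CoxeterSystem Cfsg Cfsg.Lie Cfsg.Lie.ChevalleyDatum
open Cfsg.Agent.ChevalleyStructure Cfsg.Agent.ChevalleyStructure.Elts Cfsg.Agent.ChevalleyStructure.CoxeterGeom
  Cfsg.Agent.ChevalleyStructure.CoxeterGeomTypes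
open Cfsg.Agent.Tits.Roots Cfsg.Agent.Nodes Cfsg.Agent.Nodes.RGDChev
open Cfsg.Agent.BpExc Cfsg.Agent.BpExc.LangFr Cfsg.Agent.GpExc.Field
open Cfsg.Agent.H316.U6 Cfsg.Agent.H169.RG

/-- the bound of the small classes -/
theorem bx_small {q ℓ c : ℕ} (h : c ≤ q ^ 16 * (q + 1) ^ 2) : c ≤ Bx q ℓ := by
  refine h.trans ?_
  unfold Bx
  split_ifs with h1
  · rcases h1.1 with rfl | rfl <;> norm_num
  · exact le_refl _

/-- the bound of the middle classes -/
theorem bx_mid {q ℓ c r e : ℕ} (hr : r.Prime) (hq : r ^ e = q) (hq3 : 3 ≤ q) (hℓ : ℓ.Prime) (h5 : 5 ≤ ℓ)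
    (hd : ℓ ∣ q - 1 ∨ ℓ ∣ q + 1) (hs : ¬ (7 ≤ q ∧ q ≠ 9)) (h : c ≤ q ^ 19 * (q + 1)) : c ≤ Bx q ℓ := by
  have hq9 : q = 3 ∨ q = 4 ∨ q = 5 ∨ q = 6 ∨ q = 9 := by omega
  rcases hq9 with rfl | rfl | rfl | rfl | rfl
  · exfalso
    rcases hd with h1 | h1
    · have := Nat.le_of_dvd (by norm_num) h1
      omega
    · have := Nat.le_of_dvd (by norm_num) h1
      omega
  · have hℓ5 : ℓ = 5 := by
      rcases hd with h1 | h1
      · have := Nat.le_of_dvd (by norm_num) h1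
        omega
      · have := Nat.le_of_dvd (by norm_num) h1
        omega
    unfold Bx
    rw [if_pos ⟨Or.inl rfl, hℓ5⟩]
    exact h
  · exfalso
    rcases hd with h1 | h1
    · have := Nat.le_of_dvd (by norm_num) h1
      omega
    · have h2 := Nat.le_of_dvd (by norm_num) h1
      have h3 : ℓ = 5 ∨ ℓ = 6 := by omega
      rcases h3 with rfl | rfl
      · norm_num at h1
      · exact absurd hℓ (by norm_num)
  · exfalso
    have h2 : r ∣ 6 := by rw [← hq]; exact dvd_pow_self r (by rintro rfl; norm_num at hq)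
    have h3 : r = 2 ∨ r = 3 := by
      have h4 : r ≤ 6 := Nat.le_of_dvd (by norm_num) h2
      interval_cases r
      · exact absurd hr (by norm_num)
      · exact absurd hr (by norm_num)
      · exact Or.inl rfl
      · exact Or.inr rfl
      · exact absurd hr (by norm_num)
      · norm_num at h2
      · exact absurd hr (by norm_num)
    rcases h3 with rfl | rfl
    · have h5 : (3 : ℕ) ∣ 2 ^ e := by rw [hq]; norm_num
      have := Nat.prime_three.dvd_of_dvd_pow h5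
      norm_num at this
    · have h5 : (2 : ℕ) ∣ 3 ^ e := by rw [hq]; norm_num
      have := Nat.prime_two.dvd_of_dvd_pow h5
      norm_num at this
  · have hℓ5 : ℓ = 5 := by
      rcases hd with h1 | h1
      · have h2 := Nat.le_of_dvd (by norm_num) h1
        have h3 : ℓ = 5 ∨ ℓ = 6 ∨ ℓ = 7 ∨ ℓ = 8 := by omega
        rcases h3 with rfl | rfl | rfl | rfl
        · rfl
        · norm_num at h1
        · norm_num at h1
        · exact absurd hℓ (by norm_num)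
      · have h2 := Nat.le_of_dvd (by norm_num) h1
        have h3 : ℓ = 5 ∨ ℓ = 6 ∨ ℓ = 7 ∨ ℓ = 8 ∨ ℓ = 9 ∨ ℓ = 10 := by omega
        rcases h3 with rfl | rfl | rfl | rfl | rfl | rfl
        · rfl
        · norm_num at h1
        · norm_num at h1
        · norm_num at h1
        · norm_num at h1
        · exact absurd hℓ (by norm_num)
    unfold Bx
    rw [if_pos ⟨Or.inr rfl, hℓ5⟩]
    exact h

variable {D : ChevalleyDatum} {M : CoxeterMatrix (Fin 6)} {hp : IsType D 6 M} {r q : ℕ} [hrp : Fact r.Prime]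
  {K₀ : Type} [Group K₀]

/-- **The closing.** -/
theorem close_six (m : H316.U6.MData hp r q K₀) [Finite K₀] (hF : Fr m.ι m.σ) (hq3 : 3 ≤ q)
    (hpm : ∀ y ∈ fixedSubgroup m.σ, y ^ r = 1 → y ∈ m.ι.range)
    (hcore : ∀ s ∈ fixedSubgroup m.σ, (∃ k : ℕ, k.Coprime r ∧ s ^ k = 1) →
      pCore r ↥(m.ι.range ⊓ centralizer {s}) = ⊥)
    {d : ℕ} (hd : H514.DP.MinDeg K₀ d) (hdq : q ^ 8 * (q ^ 3 - 1) ≤ d)
    (h3 : r ≠ 3 → ∀ y ∈ fixedSubgroup m.σ, y ≠ 1 → y ^ 3 = 1 → ∃ M, UsY m.ι (fixedSubgroup m.σ) r M y)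
    (hcase : ∀ ℓ : ℕ, ℓ.Prime → ℓ ≠ r → ℓ ≠ 3 → ∀ y ∈ fixedSubgroup m.σ, y ≠ 1 → y ^ ℓ = 1 →
      H165.FC.PU m y ∨ Nat.card ↥(fixedSubgroup m.σ ⊓ centralizer {y}) ≤ Bx q ℓ) : H268.RX.InK m.ι := by
  have key : ∀ (y : ↥(D.group (H469.Exc.KK r))) (a b : ℕ), a.Prime → b.Prime → y ≠ 1 → y ^ a = 1 → y ^ b = 1 → a = b := by
    intro y a b ha hb hy h1 h2
    have f1 : Fact a.Prime := ⟨ha⟩
    have f2 : Fact b.Prime := ⟨hb⟩
    rw [← orderOf_eq_prime h1 hy, orderOf_eq_prime h2 hy]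
  refine inK_six m hF hq3 hpm hcore hd hdq (fun y => H165.FC.PU m y ∨ (y ≠ 1 ∧ y ^ 3 = 1)) ?_ ?_ ?_
  · rintro y ⟨hyI, hy1, t, ht, htr, hyt⟩ (⟨M, hM, -⟩ | ⟨-, hy3⟩)
    · exact ⟨M, hM⟩
    · have h4 : t = 3 := key y t 3 ht Nat.prime_three hy1 hyt hy3
      exact h3 (by rw [← h4]; exact htr.symm) y hyI hy1 hy3
  · rintro y x t ht htr - hy1 hyt hxI hx1 hxt hyx (⟨M, hM, hn⟩ | ⟨-, hy3⟩) hPx
    · exact ⟨M, hM, hn x hxI hyx.symm⟩
    · exfalso
      have h4 : t = 3 := key y t 3 ht Nat.prime_three hy1 hyt hy3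
      rw [h4] at hxt
      exact hPx (Or.inr ⟨hx1, hxt⟩)
  · intro a ha har y hyI hy1 hya hPy
    have h5 : a ≠ 3 := by
      rintro rfl
      exact hPy (Or.inr ⟨hy1, hya⟩)
    rcases hcase a ha har h5 y hyI hy1 hya with h6 | h6
    · exact absurd (Or.inl h6) hPy
    · exact h6

end Cfsg.Agent.H318.RG
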