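import Cfsg.Agent.H318.RG.Close
import Cfsg.Agent.H318.RG.NbNine

/-!
# S3509: `E6(q)` and `2E6(q)`, `q ≥ 3`, the inner part from box U and box K1 (helper318)

* `BoxU6 m`, `BoxK6 m` : the two inputs;
* `inK_E6` : `InK m.ι`.
-/

set_option autoImplicit false
set_option linter.unusedSectionVars false

namespace Cfsg.Agent.H318.RG

open MulAction Subgroup Cfsg.Agent.H106.RC Cfsg.Agent.H327.RG Cfsg.Agent.H368.RG Cfsg.Agent.H873.RG Cfsg.Agent.H380.RC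
open Cfsg.Agent.H694.RG
open CoxeterSystem Cfsg Cfsg.Lie Cfsg.Lie.ChevalleyDatum
open Cfsg.Agent.ChevalleyStructure Cfsg.Agent.ChevalleyStructure.Elts Cfsg.Agent.ChevalleyStructure.CoxeterGeom
  Cfsg.Agent.ChevalleyStructure.CoxeterGeomTypes Cfsg.Agent.ChevalleyStructure.NPerm
open Cfsg.Agent.Tits.Roots Cfsg.Agent.Tits.Core Cfsg.Agent.Nodes Cfsg.Agent.Nodes.Reps Cfsg.Agent.Nodes.BNOf
  Cfsg.Agent.Nodes.RGDChev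
open Cfsg.Agent.KFacts.RgdField Cfsg.Agent.KFacts.RgdChevCoord
open Cfsg.Agent.BpExc.TorCent Cfsg.Agent.BpExc.Pair
open Cfsg.Agent.H469.Exc Cfsg.Agent.H316.U6 Cfsg.Agent.H169.RG

variable {M : CoxeterMatrix (Fin 6)} {hp : IsType chevE6 6 M} {r q : ℕ} [hrp : Fact r.Prime] {K₀ : Type} [Group K₀]

/-- **Box U**, `q ≥ 3`. -/
def BoxU6 [Finite M.Group] (m : MData hp r q K₀) : Prop :=
  ∀ s : ↥(chevE6.group (KK r)), m.σ s = s → s ≠ 1 → ∀ ℓ : ℕ, ℓ.Prime → ℓ ≠ r → s ^ ℓ = 1 → ∀ f : TorForm m s,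
    ∀ β ∈ Sx M.toCoxeterSystem hp.isCartan (ch hp) f.t, 0 ≤ β →
    (∀ a ∈ Sx M.toCoxeterSystem hp.isCartan (ch hp) f.t, 0 ≤ a → ¬ IsRoot M.toCoxeterSystem hp.isCartan (β + a)) →
    f.θ β = β →
    ((∃ b ∈ Sx M.toCoxeterSystem hp.isCartan (ch hp) f.t, IsRoot M.toCoxeterSystem hp.isCartan (β - b)) ∨
      (7 ≤ q ∧ q ≠ 9)) →
    ∃ M' : Subgroup ↥(chevE6.group (KK r)), UsY m.ι (fixedSubgroup m.σ) r M' s ∧
      ((∀ w ∈ PP M.toCoxeterSystem hp.isCartan (ch hp) f.t, rep M.toCoxeterSystem hp.isCartan w β = β) →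
        ∀ c ∈ fixedSubgroup m.σ, c * s = s * c → c ∈ Subgroup.normalizer (M' : Set ↥(chevE6.group (KK r))))

/-- **Box K1**. -/
def BoxK6 (m : MData hp r q K₀) : Prop :=
  r ≠ 3 → ∀ s : ↥(chevE6.group (KK r)), m.σ s = s → s ≠ 1 → s ^ 3 = 1 → ∀ f : TorForm m s,
    (Sx M.toCoxeterSystem hp.isCartan (ch hp) f.t).ncard = 18 →
    (¬ ∃ β ∈ Sx M.toCoxeterSystem hp.isCartan (ch hp) f.t, 0 ≤ β ∧ f.θ β = β ∧
      ∀ a ∈ Sx M.toCoxeterSystem hp.isCartan (ch hp) f.t, 0 ≤ a → ¬ IsRoot M.toCoxeterSystem hp.isCartan (β + a)) →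
    ∃ M' : Subgroup ↥(chevE6.group (KK r)), UsY m.ι (fixedSubgroup m.σ) r M' s

/-- **The classification of the elements of prime order.** -/
theorem class_E6 [Finite M.Group] (m : MData hp r q K₀) (hq3 : 3 ≤ q) (hU : BoxU6 m) (hK : BoxK6 m) {ℓ : ℕ} (hℓ : ℓ.Prime) (hℓr : ℓ ≠ r)
    {s : ↥(chevE6.group (KK r))} (hs : s ∈ fixedSubgroup m.σ) (hs1 : s ≠ 1) (hsℓ : s ^ ℓ = 1) :
    (∃ M' : Subgroup ↥(chevE6.group (KK r)), UsY m.ι (fixedSubgroup m.σ) r M' s ∧ (ℓ ≠ 3 →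
      ∀ c ∈ fixedSubgroup m.σ, c * s = s * c → c ∈ Subgroup.normalizer (M' : Set ↥(chevE6.group (KK r))))) ∨
    (5 ≤ ℓ ∧ Nat.card ↥(fixedSubgroup m.σ ⊓ centralizer {s}) ≤ Bx q ℓ) := by
  have hs' : m.σ s = s := hs
  obtain ⟨f⟩ := exists_torForm m hs' hℓ.ne_zero ((Nat.coprime_primes hℓ hrp.out).2 hℓr) hsℓ
  have e : fixedSubgroup m.σ ⊓ Subgroup.centralizer {s} = fixC m.σ s := by
    ext c
    rw [Subgroup.mem_inf, Subgroup.mem_centralizer_singleton_iff]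
    exact Iff.rfl
  rw [e]
  rcases H56.RG.E6.dich f hℓ hℓr hsℓ with ⟨β, T, hb⟩ | ⟨h5, hc⟩ | ⟨h5, ⟨β, T⟩, hc, ζ, w, c, c0, hζ, K, hch, h3, hj⟩ | ⟨h3, h18⟩
  · obtain ⟨M', h1, h2⟩ := hU s hs' hs1 ℓ hℓ hℓr hsℓ f β T.mem T.nonneg T.max T.fix (Or.inl hb)
    exact Or.inl ⟨M', h1, fun _ => h2 T.pp⟩
  · exact Or.inr ⟨h5, bx_small hc⟩
  · by_cases h7 : 7 ≤ q ∧ q ≠ 9
    · obtain ⟨M', h1, h2⟩ := hU s hs' hs1 ℓ hℓ hℓr hsℓ f β T.mem T.nonneg T.max T.fix (Or.inr h7)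
      exact Or.inl ⟨M', h1, fun _ => h2 T.pp⟩
    · have h6 := rank_one_node f hℓ hℓr hζ K hch h3 hj
      exact Or.inr ⟨h5, bx_mid hrp.out m.hq hq3 hℓ h5 h6.2 h7 hc⟩
  · subst h3
    left
    by_cases hT : ∃ β ∈ Sx M.toCoxeterSystem hp.isCartan (ch hp) f.t, 0 ≤ β ∧ f.θ β = β ∧
        ∀ a ∈ Sx M.toCoxeterSystem hp.isCartan (ch hp) f.t, 0 ≤ a → ¬ IsRoot M.toCoxeterSystem hp.isCartan (β + a)
    · obtain ⟨β, hβ, h0, hθ, hmax⟩ := hT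
      obtain ⟨M', h1, -⟩ := hU s hs' hs1 3 hℓ hℓr hsℓ f β hβ h0 hmax hθ (Or.inl (nb_nine f hℓ hℓr hsℓ h18 hβ))
      exact ⟨M', h1, fun h => absurd rfl h⟩
    · obtain ⟨M', h1⟩ := hK hℓr.symm s hs' hs1 hsℓ f h18 hT
      exact ⟨M', h1, fun h => absurd rfl h⟩

/-- **The inner part of `E6(q)` and `2E6(q)`, `q ≥ 3`.** -/
theorem inK_E6 [Finite M.Group] (m : MData hp r q K₀) [Finite K₀] (hF : Fr m.ι m.σ) (hq3 : 3 ≤ q)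
    (hpm : ∀ y ∈ fixedSubgroup m.σ, y ^ r = 1 → y ∈ m.ι.range)
    (hcore : ∀ s ∈ fixedSubgroup m.σ, (∃ k : ℕ, k.Coprime r ∧ s ^ k = 1) →
      pCore r ↥(m.ι.range ⊓ centralizer {s}) = ⊥)
    {d : ℕ} (hd : H514.DP.MinDeg K₀ d) (hdq : q ^ 8 * (q ^ 3 - 1) ≤ d) (hU : BoxU6 m) (hK : BoxK6 m) :
    H268.RX.InK m.ι := by
  refine close_six m hF hq3 hpm hcore hd hdq ?_ ?_
  · intro h3 y hy hy1 hy3
    rcases class_E6 m hq3 hU hK Nat.prime_three h3.symm hy hy1 hy3 with ⟨M', h1, -⟩ | ⟨h5, -⟩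
    · exact ⟨M', h1⟩
    · omega
  · intro ℓ hℓ hℓr hℓ3 y hy hy1 hyℓ
    rcases class_E6 m hq3 hU hK hℓ hℓr hy hy1 hyℓ with ⟨M', h1, h2⟩ | ⟨-, h2⟩
    · exact Or.inl ⟨M', h1, h2 hℓ3⟩
    · exact Or.inr h2

end Cfsg.Agent.H318.RG
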