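import Cfsg.Agent.H318.RG.CloseE6
import Cfsg.Agent.H56.RG.LongE6
import Cfsg.Agent.H169.RG.BoxU
import Cfsg.Agent.H452.TD.YData
import Cfsg.Agent.H675.RG.K1A

/-!
# S3509: `E6(q)` and `2E6(q)`, `q ≥ 3`, the inner part (helper318)
-/

set_option autoImplicit false
set_option linter.unusedSectionVars false

namespace Cfsg.Agent.H318.RG

open MulAction Subgroup Cfsg.Agent.H106.RC Cfsg.Agent.H327.RG Cfsg.Agent.H368.RG Cfsg.Agent.H873.RG Cfsg.Agent.H380.RC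
open Cfsg.Agent.H694.RG
open CoxeterSystem Cfsg Cfsg.Lie Cfsg.Lie.ChevalleyDatum
open Cfsg.Agent.ChevalleyStructure Cfsg.Agent.ChevalleyStructure.Elts Cfsg.Agent.ChevalleyStructure.CoxeterGeom
  Cfsg.Agent.ChevalleyStructure.CoxeterGeomTypes Cfsg.Agent.ChevalleyStructure.NPerm
open Cfsg.Agent.Tits.Roots Cfsg.Agent.Tits.Core Cfsg.Agent.Nodes Cfsg.Agent.Nodes.Reps Cfsg.Agent.Nodes.BNOf
  Cfsg.Agent.Nodes.RGDChev
open Cfsg.Agent.KFacts.RgdField Cfsg.Agent.KFacts.RgdChevCoord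
open Cfsg.Agent.BpExc.TorCent Cfsg.Agent.BpExc.Pair
open Cfsg.Agent.H469.Exc Cfsg.Agent.H316.U6 Cfsg.Agent.H169.RG

variable {M : CoxeterMatrix (Fin 6)} {hp : IsType chevE6 6 M} {r q : ℕ} [hrp : Fact r.Prime] {K₀ : Type} [Group K₀]

theorem boxU6 [Finite M.Group] (m : MData hp r q K₀) (hF : Fr m.ι m.σ) (hq3 : 3 ≤ q) : BoxU6 m := by
  intro s hs hs1 ℓ hℓ hℓr hsℓ f β hβ h0 hmax hθ hsz
  obtain ⟨U, hY⟩ := H452.TD.ydata_E6 m
  have hord : (orderOf s).Coprime r := by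
    have : Fact ℓ.Prime := ⟨hℓ⟩
    rw [orderOf_eq_prime hsℓ hs1]
    exact (Nat.coprime_primes hℓ hrp.out).2 hℓr
  refine useful_of f hF hY hord hs1 ⟨hβ, h0, hθ, hmax⟩ (H56.RG.E6.long_E6 hp hβ.1) ⟨fun h => by omega, fun h => ?_⟩
  rcases hsz with ⟨b, hb, hbr⟩ | ⟨h7, h9⟩
  · have hfin : (Gam hp f.t β).Finite := by
      refine (Cfsg.Agent.Nodes.BNOf.RGD.finite_roots (cs := M.toCoxeterSystem) (h := hp.isCartan)).subset ?_
      exact fun a ha => ha.1.1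
    exact (Set.ncard_pos hfin).2 ⟨b, hb, hbr⟩
  · omega

theorem boxK6 [Finite M.Group] (m : MData hp r q K₀) (hF : Fr m.ι m.σ) (hrd : ¬ r ∣ m.dd) : BoxK6 m := by
  intro h3 s hs hs1 hs3 f h18 hT
  obtain ⟨M', h1, -⟩ := Cfsg.Agent.H675.RG.k1 m hF hrd hs3 hs1 f (by rw [Nat.card_coe_set_eq]; exact h18) hT
  exact ⟨M', h1⟩

/-- **The inner part of `E6(q)` and `2E6(q)`, `q ≥ 3`.** -/
theorem inK_E6' [Finite M.Group] (m : MData hp r q K₀) [Finite K₀] (hF : Fr m.ι m.σ) (hq3 : 3 ≤ q) (hrd : ¬ r ∣ m.dd)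
    {d : ℕ} (hd : H514.DP.MinDeg K₀ d) (hdq : q ^ 8 * (q ^ 3 - 1) ≤ d) : H268.RX.InK m.ι := by
  obtain ⟨U, hY⟩ := H452.TD.ydata_E6 m
  exact inK_E6 m hF hq3 hY.pmem hY.core hd hdq (boxU6 m hF hq3) (boxK6 m hF hrd)

end Cfsg.Agent.H318.RG
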